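import Groth.Agent.QC.Basic

/-!
A generating section trivialises a module; a criterion for epimorphisms.
-/

set_option autoImplicit false
set_option backward.isDefEq.respectTransparency false

universe u

open CategoryTheory CategoryTheory.Limits AlgebraicGeometry TopologicalSpace Opposite
open Groth.Agent.QC (res resO res_res res_smul resO_resO app_res)

noncomputable section

namespace InvGen

variable {X Y Z : Scheme.{u}}

/-- A morphism surjective on sections locally is an epimorphism. -/
lemma epi_of_locally {M N : X.Modules} (p : M ⟶ N)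
    (h : ∀ (U : X.Opens) (t : Γ(N, U)) (x : X), x ∈ U →
      ∃ (V : X.Opens) (hV : V ≤ U), x ∈ V ∧ ∃ s, p.app V s = res N hV t) : Epi p := by
  refine ⟨fun {P} g g' hg => Scheme.Modules.hom_ext _ _ fun U => ?_⟩
  ext t
  refine Groth.Agent.QC.section_eq_of_locally fun x hx => ?_
  obtain ⟨V, hV, hxV, s, hs⟩ := h U t x hx
  refine ⟨V, hV, hxV, ?_⟩
  rw [app_res, app_res, ← hs]
  exact congrArg (fun q : M ⟶ P => q.app V s) hg

variable (j : Y ⟶ X) [IsOpenImmersion j] (M : X.Modules) {U : X.Opens}

/-- `1 ↦ e`, as a map `Γ(Y, W) → Γ(M|_Y, W)`. -/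
def genApp (hU : j.opensRange ≤ U) (e : Γ(M, U)) (W : Y.Opens) :
    Γ(Coh.structureModule Y, W) →+ Γ(M.restrict j, W) :=
  AddMonoidHom.mk'
    (fun c : Γ(Y, W) => ((j.appIso W).inv.hom c •
      res M ((j.image_le_opensRange W).trans hU) e : Γ(M, j ''ᵁ W)))
    (fun a b => by
      change (j.appIso W).inv.hom (a + b) • _ = _
      rw [map_add, add_smul])

/-- The morphism `O ⟶ M|_Y` given by a section. -/
def ofGen (hU : j.opensRange ≤ U) (e : Γ(M, U)) : Coh.structureModule Y ⟶ M.restrict j :=
  ⟨PresheafOfModules.homMk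
    { app := fun W => AddCommGrpCat.ofHom (genApp j M hU e W.unop)
      naturality := fun W W' h => by
        ext (c : Γ(Y, W.unop))
        change (j.appIso W'.unop).inv.hom (Y.presheaf.map h c) • _ =
          res M (j.image_mono (leOfHom h.unop)) ((j.appIso W.unop).inv.hom c • _)
        rw [res_smul, res_res]
        congr 1
        exact congrArg (fun φ => φ.hom c) (j.appIso_inv_naturality h) }
    fun W r c => by
      change (j.appIso W.unop).inv.hom (HMul.hMul (α := Γ(Y, W.unop)) (β := Γ(Y, W.unop))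
          (γ := Γ(Y, W.unop)) r c) • _ =
        (j.appIso W.unop).inv.hom r • ((j.appIso W.unop).inv.hom c •
          res M ((j.image_le_opensRange W.unop).trans hU) e)
      rw [map_mul, mul_smul]⟩

/-- A generating section gives an isomorphism with `O`. -/
theorem nonempty_iso (hU : j.opensRange ≤ U) (e : Γ(M, U))
    (he : ∀ (V : X.Opens) (hV : V ≤ U),
      Function.Bijective fun c : Γ(X, V) => c • res M hV e) :
    Nonempty (M.restrict j ≅ Coh.structureModule Y) := by
  haveI : IsIso (ofGen j M hU e) := by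
    rw [Scheme.Modules.Hom.isIso_iff_isIso_app]
    intro W
    rw [ConcreteCategory.isIso_iff_bijective]
    exact (he (j ''ᵁ W) ((j.image_le_opensRange W).trans hU)).comp
      (ConcreteCategory.bijective_of_isIso (j.appIso W).inv)
  exact ⟨(asIso (ofGen j M hU e)).symm⟩

variable {M}

/-- Local generators give invertibility. -/
theorem isInvertible (h : ∀ x : X, ∃ (U : X.Opens) (e : Γ(M, U)), x ∈ U ∧
    ∀ (V : X.Opens) (hV : V ≤ U), Function.Bijective fun c : Γ(X, V) => c • res M hV e) :
    PicF.IsInvertible M := fun x => by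
  obtain ⟨U, e, hx, he⟩ := h x
  exact ⟨U, hx, nonempty_iso U.ι M U.opensRange_ι.le e he⟩

/-- Local generators near the points of `Y` give invertibility on `Y`. -/
theorem isInvertible_restrict (h : ∀ y : Y, ∃ (U : X.Opens) (e : Γ(M, U)), j y ∈ U ∧
    ∀ (V : X.Opens) (hV : V ≤ U), Function.Bijective fun c : Γ(X, V) => c • res M hV e) :
    PicF.IsInvertible (M.restrict j) := fun y => by
  obtain ⟨U, e, hy, he⟩ := h y
  have hU : ((j ⁻¹ᵁ U).ι ≫ j).opensRange ≤ U := by
    rw [Scheme.Hom.opensRange_comp, Scheme.Opens.opensRange_ι,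
      Scheme.Hom.image_preimage_eq_opensRange_inf]
    exact inf_le_right
  obtain ⟨i⟩ := nonempty_iso ((j ⁻¹ᵁ U).ι ≫ j) M hU e he
  exact ⟨j ⁻¹ᵁ U, hy, ⟨((Scheme.Modules.restrictFunctorComp (j ⁻¹ᵁ U).ι j).app M).symm ≪≫ i⟩⟩

end InvGen
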