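import Mathlib

/-!
In a Noetherian normal domain divisibility is checked at the primes of height one.
-/

set_option autoImplicit false
universe u

namespace Groth.Agent.InvGen

variable {R : Type u} [CommRing R] [IsDomain R] [IsNoetherianRing R] [IsIntegrallyClosed R]

theorem dvd_of_forall_height_one {r c : R} (hr : r ≠ 0)
    (h : ∀ p : Ideal R, p.IsPrime → p.height = 1 → ∃ s ∉ p, r ∣ s * c) : r ∣ c := by
  by_contra hrc
  have hc0 : Ideal.Quotient.mk (Ideal.span {r}) c ≠ 0 := fun e =>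
    hrc (Ideal.mem_span_singleton.1 (Ideal.Quotient.eq_zero_iff_mem.1 e))
  obtain ⟨P, hP, hle⟩ := exists_le_isAssociatedPrime_of_isNoetherianRing R (Ideal.Quotient.mk (Ideal.span {r}) c) hc0
  obtain ⟨hPp, y, hy⟩ := isAssociatedPrime_iff.1 hP
  obtain ⟨d, rfl⟩ := Ideal.Quotient.mk_surjective y
  have hmem : ∀ b, b ∈ P ↔ r ∣ b * d := fun b => by
    rw [hy, Submodule.mem_colon_singleton, Submodule.mem_bot, ← Ideal.mem_span_singleton, ← Ideal.Quotient.eq_zero_iff_mem,
      map_mul]
    rfl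
  have hrP : r ∈ P := (hmem r).2 (dvd_mul_right r d)
  have hP0 : P ≠ ⊥ := fun e => hr (by rw [e] at hrP; exact hrP)
  obtain ⟨a, ha, c', hc', hac⟩ : ∃ a ∈ P, ∃ c', c' ∉ P ∧ a * d = r * c' := by
    by_contra! hall
    let K := FractionRing R
    let z : K := algebraMap R K d / algebraMap R K r
    have hr0 : algebraMap R K r ≠ 0 := (map_ne_zero_iff _ (IsFractionRing.injective R K)).2 hr
    have hz : IsIntegral R z := by
      refine isIntegral_of_smul_mem_submodule (Submodule.map (Algebra.linearMap R K) P) ?_ ((IsNoetherian.noetherian P).map _) z ?_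
      · rw [ne_eq, ← le_bot_iff, Submodule.map_le_iff_le_comap, Submodule.comap_bot, LinearMap.ker_eq_bot.2 (show Function.Injective (Algebra.linearMap R K) from IsFractionRing.injective R K)]
        exact fun e => hP0 (le_bot_iff.1 e)
      · rintro _ ⟨b, hb, rfl⟩
        obtain ⟨e, he⟩ := (hmem b).1 hb
        refine ⟨e, by_contra fun he' => hall b hb e he' he, ?_⟩
        show algebraMap R K e = z • algebraMap R K b
        rw [smul_eq_mul, div_mul_eq_mul_div, eq_div_iff hr0, ← map_mul, ← map_mul, mul_comm d, he, mul_comm e]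
    obtain ⟨w, hw⟩ := IsIntegrallyClosed.isIntegral_iff.1 hz
    refine hPp.ne_top ((Ideal.eq_top_iff_one P).2 ((hmem 1).2 ⟨w, ?_⟩))
    apply IsFractionRing.injective R K
    rw [one_mul, map_mul, hw, mul_div_cancel₀ _ hr0]
  have hd : d ≠ 0 := fun e => hPp.ne_top ((Ideal.eq_top_iff_one P).2 ((hmem 1).2 (by rw [one_mul, e]; exact dvd_zero r)))
  have hle1 : P.height ≤ 1 := by
    refine Ideal.height_le_one_of_isPrincipal_of_mem_minimalPrimes (Ideal.span {a}) P
      ⟨⟨hPp, (Ideal.span_singleton_le_iff_mem P).2 ha⟩, fun Q hQ hQP b hb => ?_⟩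
    obtain ⟨e, he⟩ := (hmem b).1 hb
    have h1 : b * c' = a * e := mul_left_cancel₀ hr (by linear_combination (-b) * hac + a * he)
    have h2 : b * c' ∈ Q := h1 ▸ Q.mul_mem_right e (hQ.2 (Ideal.mem_span_singleton_self a))
    exact (hQ.1.mem_or_mem h2).resolve_right fun h3 => hc' (hQP h3)
  have hP1 : P.height = 1 := le_antisymm hle1 (Order.one_le_iff_ne_zero.2 fun e => hP0 (by
    have h' := (Ideal.height_le_iff (n := 0)).1 (le_of_eq e)
    by_contra hne
    exact absurd (h' ⊥ Ideal.isPrime_bot (bot_lt_iff_ne_bot.2 hne)) not_lt_zero))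
  obtain ⟨s, hs, hrs⟩ := h P hPp hP1
  refine hs (hle ?_)
  rw [Submodule.mem_colon_singleton, Submodule.mem_bot]
  show Ideal.Quotient.mk (Ideal.span {r}) (s * c) = 0
  exact Ideal.Quotient.eq_zero_iff_mem.2 (Ideal.mem_span_singleton.2 hrs)

end Groth.Agent.InvGen
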