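import Groth.Agent.InvGen.Sep
import Groth.Agent.InvGen.NormalDvd

/-!
An abelian extension split into subgroups with all inertia in one of them is generated by the invariant subalgebras.
-/

set_option autoImplicit false
universe u v w

open scoped Pointwise

noncomputable section

namespace Groth.Agent.InvGen

variable (R : Type u) [CommRing R] {A : Type v} [CommRing A] [Algebra R A] {H : Type w} [CommGroup H]
  [MulSemiringAction H A] [SMulCommClass H R A] {n : ℕ} (Gi : Fin n → Subgroup H)

/-- The subgroup generated by the members in `T`. -/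
abbrev grp (T : Finset (Fin n)) : Subgroup H := ⨆ i ∈ T, Gi i

lemma le_grp {T : Finset (Fin n)} {i : Fin n} (h : i ∈ T) : Gi i ≤ grp Gi T :=
  le_iSup₂ (f := fun i (_ : i ∈ T) => Gi i) i h

lemma grp_mono {T T' : Finset (Fin n)} (h : T ⊆ T') : grp Gi T ≤ grp Gi T' :=
  iSup₂_le fun _ hi => le_grp Gi (h hi)

variable (A) in
/-- The product of the invariant subalgebras of the complements. -/
abbrev prodFix (T : Finset (Fin n)) : Submodule R A :=
  ∏ i ∈ T, Subalgebra.toSubmodule (fix R A (grp Gi (Finset.univ.erase i)))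

lemma prod_le_subalgebra {ι : Type*} (T : Finset ι) (N : ι → Submodule R A) (S : Subalgebra R A)
    (h : ∀ i ∈ T, N i ≤ Subalgebra.toSubmodule S) : ∏ i ∈ T, N i ≤ Subalgebra.toSubmodule S :=
  Finset.prod_induction _ (fun M : Submodule R A => M ≤ Subalgebra.toSubmodule S)
    (fun _ _ hN hN' => Submodule.mul_le.2 fun _ ha _ hb =>
      (S.mem_toSubmodule).2 (S.mul_mem (S.mem_toSubmodule.1 (hN ha)) (S.mem_toSubmodule.1 (hN' hb))))
    (Submodule.one_le.2 (S.mem_toSubmodule.2 S.one_mem)) h

lemma prodFix_le_sup (T : Finset (Fin n)) :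
    prodFix R A Gi T ≤ Subalgebra.toSubmodule (⨆ i, fix R A (grp Gi (Finset.univ.erase i))) :=
  prod_le_subalgebra R T _ _ fun i _ z hz => le_iSup (fun i => fix R A (grp Gi (Finset.univ.erase i))) i hz

lemma prodFix_le_fix {T : Finset (Fin n)} {j : Fin n} (hj : j ∉ T) :
    prodFix R A Gi T ≤ Subalgebra.toSubmodule (fix R A (Gi j)) :=
  prod_le_subalgebra R T _ _ fun i hi z hz =>
    fix_anti (R := R) (le_grp Gi (Finset.mem_erase.2 ⟨ne_of_mem_of_not_mem hi hj |>.symm, Finset.mem_univ j⟩)) hz

lemma eq_one_of_disjoint (hinj : Function.Injective fun f : (∀ i, Gi i) => ∏ i, (f i : H)) {T T' : Finset (Fin n)}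
    (hT : Disjoint T T') {g : H} (h : g ∈ grp Gi T) (h' : g ∈ grp Gi T') : g = 1 := by
  classical
  let φ : (∀ i, Gi i) →* H :=
    { toFun := fun f => ∏ i, (f i : H)
      map_one' := by simp
      map_mul' := fun f f' => by simp [Finset.prod_mul_distrib] }
  let W : Finset (Fin n) → Subgroup (∀ i, Gi i) := fun T =>
    { carrier := {f | ∀ i ∉ T, f i = 1}
      one_mem' := fun _ _ => rfl
      mul_mem' := fun hf hf' i hi => by rw [Pi.mul_apply, hf i hi, hf' i hi, one_mul]
      inv_mem' := fun hf i hi => by rw [Pi.inv_apply, hf i hi, inv_one] }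
  have key : ∀ T, grp Gi T ≤ (W T).map φ := fun T => iSup₂_le fun i hi x hx => by
    refine ⟨Pi.mulSingle i ⟨x, hx⟩, fun j hj => Pi.mulSingle_eq_of_ne (fun h : j = i => hj (h ▸ hi)) _, ?_⟩
    show ∏ j, ((Pi.mulSingle i (⟨x, hx⟩ : Gi i) : ∀ j, Gi j) j : H) = x
    rw [Finset.prod_eq_single i (fun j _ hj => by rw [Pi.mulSingle_eq_of_ne hj]; rfl) (by simp)]
    simp
  obtain ⟨f, hf, rfl⟩ := key T h
  obtain ⟨f', hf', hff⟩ := key T' h'
  obtain rfl : f' = f := hinj hff
  rw [show f' = 1 from funext fun i => if hi : i ∈ T then hf' i (Finset.disjoint_left.1 hT hi) else hf i hi, map_one]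

variable {R} {Gi} [Finite H] [IsDomain A] [IsNoetherianRing R] [Module.Finite R A]
  (hinj : Function.Injective (algebraMap R A)) (hfix : ∀ a : A, (∀ h : H, h • a = a) → a ∈ Set.range (algebraMap R A))
  (hφ : Function.Injective fun f : (∀ i, Gi i) => ∏ i, (f i : H)) (hsup : grp Gi Finset.univ = ⊤)

include hinj hfix hsup in
lemma mem_range_of_mem_fix {z : A} (hz : z ∈ fix R A (grp Gi Finset.univ)) : z ∈ Set.range (algebraMap R A) :=
  hfix z fun h => (mem_fix R).1 hz h (hsup ▸ Subgroup.mem_top h)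

include hinj hfix hφ hsup in
/-- One step of the decomposition over a prime. -/
theorem step {p : Ideal R} [p.IsPrime] {T : Finset (Fin n)} {j : Fin n} (hj : j ∉ T)
    (hI : ∀ P : Ideal A, P.IsPrime → P.comap (algebraMap R A) = p → P.inertia H ≤ grp Gi Tᶜ)
    (ih : ∀ x ∈ fix R A (grp Gi Tᶜ), ∃ s ∉ p, s • x ∈ prodFix R A Gi T)
    {a : A} (ha : a ∈ fix R A (grp Gi (insert j T)ᶜ)) :
    ∃ s ∉ p, s • a ∈ prodFix R A Gi (insert j T) := by
  classical
  letI : Fintype (grp Gi T) := Fintype.ofFinite _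
  let σs : Finset H := ((Finset.univ : Finset (grp Gi T)).filter fun h => h ≠ 1).image fun h : grp Gi T => (h : H)
  have hσs : ∀ σ ∈ σs, σ ∉ grp Gi Tᶜ := fun σ hσ hσK => by
    obtain ⟨h, hh, rfl⟩ := Finset.mem_image.1 hσ
    exact (Finset.mem_filter.1 hh).2 (Subtype.ext (eq_one_of_disjoint Gi hφ disjoint_compl_right h.2 hσK))
  obtain ⟨s, hs, ι, _, x, y, hx, hy, hsum, hzero⟩ := exists_chr hinj hI σs hσs
  let t : ι → A := fun k => ∑ h : grp Gi T, (h : H) • (y k * a)
  have ht : ∀ k, t k ∈ fix R A (grp Gi (Finset.univ.erase j)) := fun k => by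
    refine (mem_fix R).2 ?_
    have h1 : ∀ g ∈ grp Gi T, g • t k = t k := fun g hg => by
      simp only [t, Finset.smul_sum, ← mul_smul]
      exact Fintype.sum_equiv (Equiv.mulLeft (⟨g, hg⟩ : grp Gi T)) _ _ fun _ => rfl
    have h2 : ∀ g ∈ grp Gi (insert j T)ᶜ, g • t k = t k := fun g hg => by
      simp only [t, Finset.smul_sum, ← mul_smul]
      refine Finset.sum_congr rfl fun h _ => ?_
      rw [mul_comm, mul_smul, smul_mul', (mem_fix R).1 ha g hg,
        (mem_fix R).1 (hy k) g (grp_mono Gi (Finset.compl_subset_compl.2 (Finset.subset_insert j T)) hg)]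
    intro g hg
    refine (?_ : grp Gi (Finset.univ.erase j) ≤ MulAction.stabilizer H (t k)) hg
    refine iSup₂_le fun i hi g hg => ?_
    by_cases hiT : i ∈ T
    · exact h1 g (le_grp Gi hiT hg)
    · refine h2 g (le_grp Gi (Finset.mem_compl.2 fun h => ?_) hg)
      rcases Finset.mem_insert.1 h with h | h
      · exact (Finset.mem_erase.1 hi).1 h
      · exact hiT h
  have hkey : ∑ k, x k * t k = s • a := by
    simp only [t, Finset.mul_sum]
    rw [Finset.sum_comm, Finset.sum_eq_single (1 : grp Gi T)]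
    · simp only [OneMemClass.coe_one, one_smul, ← mul_assoc, ← Finset.sum_mul, hsum, Algebra.smul_def]
    · intro h _ hne
      simp only [smul_mul', ← mul_assoc, ← Finset.sum_mul,
        hzero (h : H) (Finset.mem_image.2 ⟨h, Finset.mem_filter.2 ⟨Finset.mem_univ h, hne⟩, rfl⟩), zero_mul]
    · simp
  choose sk hsk hskx using fun k => ih (x k) (hx k)
  refine ⟨(∏ k, sk k) * s, fun h => ?_, ?_⟩
  · rcases ‹p.IsPrime›.mem_or_mem h with h | h
    · obtain ⟨k, -, hk⟩ := (‹p.IsPrime›.prod_mem_iff).1 h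
      exact hsk k hk
    · exact hs h
  · rw [mul_smul, ← hkey, Finset.smul_sum]
    refine sum_mem fun k hk => ?_
    rw [← Finset.prod_erase_mul _ _ hk, mul_smul, ← smul_mul_assoc (sk k), prodFix, Finset.prod_insert hj, mul_comm (_ : Submodule R A)]
    exact Submodule.smul_mem _ _ (Submodule.mul_mem_mul (hskx k) (ht k))

include hinj hfix hφ hsup in
theorem exists_smul_mem_prodFix {p : Ideal R} [p.IsPrime] : ∀ T : Finset (Fin n),
    (∀ P : Ideal A, P.IsPrime → P.comap (algebraMap R A) = p → P.inertia H ≤ grp Gi Tᶜ) →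
    ∀ a ∈ fix R A (grp Gi Tᶜ), ∃ s ∉ p, s • a ∈ prodFix R A Gi T := by
  classical
  intro T
  induction T using Finset.induction_on with
  | empty =>
    intro _ a ha
    rw [Finset.compl_empty] at ha
    obtain ⟨r, rfl⟩ := mem_range_of_mem_fix hinj hfix hsup ha
    exact ⟨1, ‹p.IsPrime›.one_notMem, by rw [one_smul, prodFix, Finset.prod_empty]; exact Submodule.algebraMap_mem r⟩
  | @insert j T hj ih =>
    intro hI a ha
    have hI' : ∀ P : Ideal A, P.IsPrime → P.comap (algebraMap R A) = p → P.inertia H ≤ grp Gi Tᶜ := fun P hP hPp =>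
      (hI P hP hPp).trans (grp_mono Gi (Finset.compl_subset_compl.2 (Finset.subset_insert j T)))
    exact step hinj hfix hφ hsup hj hI' (ih hI') ha

variable [FaithfulSMul H A]

include hinj in
lemma inertia_le_of_comap_eq_bot (K : Subgroup H) (P : Ideal A) (hP : P.comap (algebraMap R A) = ⊥) :
    P.inertia H ≤ K := by
  haveI : Nontrivial R := (algebraMap R A).domain_nontrivial
  haveI : Algebra.IsIntegral R A := Algebra.IsIntegral.of_finite R A
  intro g hg
  obtain rfl : g = 1 := FaithfulSMul.eq_of_smul_eq_smul (α := A) fun x => by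
    have h1 : g • x - x ∈ P := hg x
    rw [Ideal.eq_bot_of_comap_eq_bot (R := R) hP, Ideal.mem_bot, sub_eq_zero] at h1
    rw [h1, one_smul]
  exact K.one_mem

variable [IsDomain R] [∀ i, Module.Free R (fix R A (grp Gi (Finset.univ.erase i)))]

include hinj hfix hφ hsup in
/-- The basis of a complementary invariant algebra is independent over the invariants of the subgroup. -/
theorem eq_zero_of_sum_basis (j : Fin n) {κ : Type v} [Fintype κ]
    (b : Module.Basis κ R (fix R A (grp Gi (Finset.univ.erase j)))) {d : κ → A} (hd : ∀ m, d m ∈ fix R A (Gi j))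
    (h : ∑ m, d m * (b m : A) = 0) : ∀ m, d m = 0 := by
  classical
  letI : Fintype (Gi j) := Fintype.ofFinite _
  let σs : Finset H := ((Finset.univ : Finset (Gi j)).filter fun g => g ≠ 1).image fun g : Gi j => (g : H)
  haveI : (⊥ : Ideal R).IsPrime := Ideal.isPrime_bot
  obtain ⟨s, hs, ι, _, x, y, hx, hy, hsum, hzero⟩ := exists_chr (p := (⊥ : Ideal R)) hinj
    (fun P _ hP => inertia_le_of_comap_eq_bot hinj (grp Gi (Finset.univ.erase j)) P hP) σs fun σ hσ hσK => by
      obtain ⟨g, hg, rfl⟩ := Finset.mem_image.1 hσ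
      refine (Finset.mem_filter.1 hg).2 (Subtype.ext (eq_one_of_disjoint Gi hφ (T := {j}) ?_
        (le_grp Gi (Finset.mem_singleton_self j) g.2) hσK))
      simp
  let t : ι → κ → A := fun k m => ∑ g : Gi j, (g : H) • (y k * b m)
  have ht : ∀ k m, t k m ∈ Set.range (algebraMap R A) := fun k m => by
    refine mem_range_of_mem_fix hinj hfix hsup ((mem_fix R).2 fun g hg => ?_)
    refine (?_ : grp Gi Finset.univ ≤ MulAction.stabilizer H (t k m)) hg
    refine iSup₂_le fun i _ g hg => ?_
    show g • t k m = t k m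
    simp only [t, Finset.smul_sum, ← mul_smul]
    rcases eq_or_ne i j with rfl | hij
    · exact Fintype.sum_equiv (Equiv.mulLeft (⟨g, hg⟩ : Gi i)) _ _ fun _ => rfl
    · have hg' : g ∈ grp Gi (Finset.univ.erase j) := le_grp Gi (Finset.mem_erase.2 ⟨hij, Finset.mem_univ i⟩) hg
      refine Finset.sum_congr rfl fun h _ => ?_
      rw [mul_comm, mul_smul, smul_mul', (mem_fix R).1 (hy k) g hg', (mem_fix R).1 (b m).2 g hg']
  choose r hr using ht
  have hsb : ∀ m, s • (b m : A) = ∑ k, r k m • x k := fun m => by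
    simp only [Algebra.smul_def, hr, t, Finset.sum_mul]
    rw [Finset.sum_comm, Finset.sum_eq_single (1 : Gi j)]
    · simp only [OneMemClass.coe_one, one_smul, mul_right_comm (y _), ← Finset.sum_mul, ← hsum]
      refine congrArg (· * (b m : A)) (Finset.sum_congr rfl fun k _ => mul_comm _ _)
    · intro g _ hne
      simp only [smul_mul', mul_right_comm _ ((g : H) • (b m : A)), ← Finset.sum_mul]
      rw [show ∑ k, (g : H) • y k * x k = 0 from (Finset.sum_congr rfl fun k _ => mul_comm _ _).trans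
        (hzero (g : H) (Finset.mem_image.2 ⟨g, Finset.mem_filter.2 ⟨Finset.mem_univ g, hne⟩, rfl⟩)), zero_mul]
    · simp
  have hrd : ∀ k, ∑ m, r k m • d m = 0 := fun k => by
    simp only [Algebra.smul_def, hr, t, Finset.sum_mul]
    rw [Finset.sum_comm]
    refine Finset.sum_eq_zero fun g _ => ?_
    rw [show (0 : A) = (g : H) • y k * (g : H) • (0 : A) by simp, ← h, Finset.smul_sum, Finset.mul_sum]
    refine Finset.sum_congr rfl fun m _ => ?_
    rw [smul_mul', smul_mul', (mem_fix R).1 (hd m) g g.2]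
    ring
  intro l
  have hc : ∀ m, (s • Finsupp.single m (1 : R)) l = ∑ k, r k m * (b.repr ⟨x k, hx k⟩) l := fun m => by
    have h1 : s • b m = ∑ k, r k m • (⟨x k, hx k⟩ : fix R A (grp Gi (Finset.univ.erase j))) :=
      Subtype.ext (by rw [Subalgebra.coe_smul, hsb, AddSubmonoidClass.coe_finsetSum]; rfl)
    have h2 := congrArg (fun z => b.repr z l) h1
    simp only [map_smul, map_sum, Module.Basis.repr_self, Finsupp.finsetSum_apply, Finsupp.smul_apply, smul_eq_mul] at h2 ⊢
    exact h2
  have h3 : s • d l = 0 := by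
    have h4 : ∑ m, (s • Finsupp.single m (1 : R)) l • d m = s • d l := by
      rw [Finset.sum_eq_single l (fun m _ hm => by simp [hm]) (by simp)]
      simp
    rw [← h4]
    simp only [hc, Finset.sum_smul]
    rw [Finset.sum_comm]
    refine Finset.sum_eq_zero fun k _ => ?_
    simp only [mul_comm (r k _), mul_smul, ← Finset.smul_sum, hrd, smul_zero]
  rw [Algebra.smul_def, mul_eq_zero] at h3
  exact h3.resolve_left fun h5 => hs (Ideal.mem_bot.2 (hinj (h5.trans (map_zero _).symm)))

include hinj hfix hφ hsup in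
theorem exists_independent_span_prodFix : ∀ T : Finset (Fin n), ∃ (ι : Type v) (_ : Fintype ι) (f : ι → A),
    LinearIndependent R f ∧ Submodule.span R (Set.range f) = prodFix R A Gi T := by
  classical
  intro T
  induction T using Finset.induction_on with
  | empty =>
    refine ⟨PUnit, inferInstance, fun _ => 1, ?_, ?_⟩
    · refine Fintype.linearIndependent_iff.2 fun g hg i => hinj ?_
      simpa [Algebra.smul_def] using hg
    · rw [prodFix, Finset.prod_empty, Set.range_const, Submodule.one_eq_span]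
  | @insert j T hj ih =>
    obtain ⟨ι, _, f, hf, hspan⟩ := ih
    haveI : IsNoetherian R A := isNoetherian_of_isNoetherianRing_of_finite R A
    haveI : Module.Finite R (fix R A (grp Gi (Finset.univ.erase j))) :=
      Module.Finite.of_fg (IsNoetherian.noetherian (Subalgebra.toSubmodule (fix R A (grp Gi (Finset.univ.erase j)))))
    let b := Module.Free.chooseBasis R (fix R A (grp Gi (Finset.univ.erase j)))
    refine ⟨ι × Module.Free.ChooseBasisIndex R (fix R A (grp Gi (Finset.univ.erase j))), inferInstance,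
      fun q => f q.1 * (b q.2 : A), ?_, ?_⟩
    · refine Fintype.linearIndependent_iff.2 fun g hg q => ?_
      have hd : ∀ m, ∑ a, g (a, m) • f a ∈ fix R A (Gi j) := fun m =>
        prodFix_le_fix R Gi hj (sum_mem fun a _ => Submodule.smul_mem _ _ (hspan ▸ Submodule.subset_span ⟨a, rfl⟩))
      have h1 := eq_zero_of_sum_basis hinj hfix hφ hsup j b hd (by
        rw [← hg, Fintype.sum_prod_type, Finset.sum_comm]
        exact Finset.sum_congr rfl fun m _ => by
          rw [Finset.sum_mul]; exact Finset.sum_congr rfl fun a _ => smul_mul_assoc _ _ _)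
      exact Fintype.linearIndependent_iff.1 hf _ (h1 q.2) q.1
    · have hb : Subalgebra.toSubmodule (fix R A (grp Gi (Finset.univ.erase j))) = Submodule.span R (Set.range fun m => (b m : A)) := by
        have := congrArg (Submodule.map (fix R A (grp Gi (Finset.univ.erase j))).val.toLinearMap) b.span_eq
        rw [Submodule.map_span, ← Set.range_comp] at this
        refine Eq.trans ?_ this.symm
        refine Submodule.ext fun z => ⟨fun hz => Submodule.mem_map.2 ⟨⟨z, hz⟩, Submodule.mem_top, rfl⟩, fun hz => ?_⟩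
        obtain ⟨w, -, rfl⟩ := Submodule.mem_map.1 hz
        exact w.2
      rw [prodFix, Finset.prod_insert hj, mul_comm (_ : Submodule R A)]
      change _ = prodFix R A Gi T * _
      rw [← hspan, hb, Submodule.span_mul_span]
      congr 1
      ext z
      simp [Set.mem_mul, eq_comm]

variable [IsIntegrallyClosed R]

include hinj hfix hφ hsup in
theorem iSup_fix_eq_top
    (hp : ∀ p : Ideal R, p.IsPrime → p.height = 1 →
      (∀ P : Ideal A, P.IsPrime → P.comap (algebraMap R A) = p → P.inertia H = ⊥) ∨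
      ∃ i, ∀ P : Ideal A, P.IsPrime → P.comap (algebraMap R A) = p → P.inertia H ≤ Gi i) :
    (⨆ i, fix R A (grp Gi (Finset.univ.erase i))) = ⊤ := by
  classical
  refine eq_top_iff.2 fun a _ => ?_
  suffices h : a ∈ prodFix R A Gi Finset.univ from prodFix_le_sup R Gi Finset.univ h
  have hbot : a ∈ fix R A (grp Gi (Finset.univ : Finset (Fin n))ᶜ) := (mem_fix R).2 fun g hg => by
    rw [Finset.compl_univ, grp] at hg
    simp only [Finset.notMem_empty, iSup_false, iSup_bot, Subgroup.mem_bot] at hg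
    rw [hg, one_smul]
  have hloc : ∀ p : Ideal R, p.IsPrime → p = ⊥ ∨ p.height = 1 → ∃ s ∉ p, s • a ∈ prodFix R A Gi Finset.univ := by
    intro p _ hp1
    rcases hp1.imp_right (hp p ‹_›) with hp1 | h | ⟨i, hi⟩
    · exact exists_smul_mem_prodFix hinj hfix hφ hsup _
        (fun P _ hP => inertia_le_of_comap_eq_bot hinj _ P (hP.trans hp1)) a hbot
    · exact exists_smul_mem_prodFix hinj hfix hφ hsup _ (fun P hP hPp => (h P hP hPp).le.trans bot_le) a hbot
    · have hu : (Finset.univ : Finset (Fin n)) = insert i (Finset.univ.erase i) := by simp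
      have hI : ∀ P : Ideal A, P.IsPrime → P.comap (algebraMap R A) = p → P.inertia H ≤ grp Gi (Finset.univ.erase i)ᶜ :=
        fun P hP hPp => (hi P hP hPp).trans (le_grp Gi (by simp))
      rw [hu] at hbot ⊢
      exact step hinj hfix hφ hsup (Finset.notMem_erase i _) hI
        (exists_smul_mem_prodFix hinj hfix hφ hsup _ hI) hbot
  obtain ⟨ι, _, f, hf, hspan⟩ := exists_independent_span_prodFix hinj hfix hφ hsup Finset.univ
  haveI : (⊥ : Ideal R).IsPrime := Ideal.isPrime_bot
  obtain ⟨s₀, hs₀, hs₀a⟩ := hloc ⊥ inferInstance (Or.inl rfl)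
  rw [← hspan] at hs₀a ⊢
  obtain ⟨c, hc⟩ := (Submodule.mem_span_range_iff_exists_fun R).1 hs₀a
  have hdvd : ∀ k, s₀ ∣ c k := fun k => by
    refine dvd_of_forall_height_one (fun e => hs₀ (e ▸ zero_mem _)) fun p hp' hp1 => ?_
    obtain ⟨s, hs, hsa⟩ := hloc p hp' (Or.inr hp1)
    rw [← hspan] at hsa
    obtain ⟨c', hc'⟩ := (Submodule.mem_span_range_iff_exists_fun R).1 hsa
    have h1 : ∑ l, (s₀ * c' l - s * c l) • f l = 0 := by
      simp only [sub_smul, mul_smul, Finset.sum_sub_distrib, ← Finset.smul_sum, hc, hc']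
      rw [smul_comm, sub_self]
    exact ⟨s, hs, c' k, (sub_eq_zero.1 (Fintype.linearIndependent_iff.1 hf _ h1 k)).symm⟩
  choose e he using hdvd
  refine (Submodule.mem_span_range_iff_exists_fun R).2 ⟨e, ?_⟩
  have h2 : s₀ • (∑ k, e k • f k - a) = 0 := by
    rw [smul_sub, Finset.smul_sum, ← hc, sub_eq_zero]
    exact Finset.sum_congr rfl fun k _ => by rw [← mul_smul, he]
  rw [Algebra.smul_def, mul_eq_zero] at h2
  exact sub_eq_zero.1 (h2.resolve_left fun h5 => hs₀ (Ideal.mem_bot.2 (hinj (h5.trans (map_zero _).symm))))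

end Groth.Agent.InvGen
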